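import Groth.Agent.Weighting.SplitAlg

/-!
# Separable elements of residue extensions and etale neighbourhoods
-/

set_option autoImplicit false
set_option linter.style.haveILetI false
universe u

open Polynomial

namespace Groth.Agent.EtInjUniv

/-- some prime in a nonempty fibre of a finite type algebra has algebraic residue field -/
theorem exists_prime_integral {R B : Type u} [CommRing R] [CommRing B] [Algebra R B] [Algebra.FiniteType R B]
    (Q : Ideal B) [Q.IsPrime] :
    ∃ Q₀ : Ideal B, Q₀.IsPrime ∧ Q₀.comap (algebraMap R B) = Q.comap (algebraMap R B) ∧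
      ∀ (Ω : Type u) [Field Ω] [Algebra R Ω] [Algebra (Q.comap (algebraMap R B)).ResidueField Ω]
        [IsScalarTower R (Q.comap (algebraMap R B)).ResidueField Ω] (ξ : B →ₐ[R] Ω), RingHom.ker ξ = Q₀ →
        ∀ s, IsIntegral (Q.comap (algebraMap R B)).ResidueField (ξ s) := by
  let p := Q.comap (algebraMap R B)
  haveI : p.IsPrime := Ideal.IsPrime.comap _
  haveI : Q.LiesOver p := ⟨rfl⟩
  haveI : Nontrivial (p.Fiber B) := by
    letI : Algebra p.ResidueField Q.ResidueField := (Ideal.ResidueField.map p Q (algebraMap R B) rfl).toAlgebra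
    haveI : IsScalarTower R p.ResidueField Q.ResidueField := .of_algebraMap_eq fun r => by
      rw [RingHom.algebraMap_toAlgebra]
      exact ((Ideal.ResidueField.map_algebraMap p Q (algebraMap R B) rfl r).trans
        (IsScalarTower.algebraMap_apply R B Q.ResidueField r).symm).symm
    let g : p.Fiber B →ₐ[p.ResidueField] Q.ResidueField :=
      Algebra.TensorProduct.lift (Algebra.ofId _ _) (IsScalarTower.toAlgHom R B Q.ResidueField) fun _ _ => .all _ _
    exact g.toRingHom.domain_nontrivial
  obtain ⟨M, hM⟩ := Ideal.exists_maximal (p.Fiber B)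
  let π : B →+* p.Fiber B := (Algebra.TensorProduct.includeRight : B →ₐ[R] p.Fiber B).toRingHom
  letI := Ideal.Quotient.field M
  haveI : Module.Finite p.ResidueField (p.Fiber B ⧸ M) := finite_of_finite_type_of_isJacobsonRing _ _
  have hπ : ∀ r : R, π (algebraMap R B r) = algebraMap p.ResidueField (p.Fiber B) (algebraMap R p.ResidueField r) :=
    fun r => by
      show (Algebra.TensorProduct.includeRight : B →ₐ[R] p.Fiber B) (algebraMap R B r) = _
      rw [AlgHom.commutes]
      exact IsScalarTower.algebraMap_apply R p.ResidueField (p.Fiber B) r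
  have hkerp : ∀ r : R, algebraMap R B r ∈ M.comap π ↔ algebraMap R p.ResidueField r = 0 := fun r => by
    rw [Ideal.mem_comap, hπ, ← Ideal.Quotient.eq_zero_iff_mem]
    exact map_eq_zero (algebraMap p.ResidueField (p.Fiber B ⧸ M))
  refine ⟨M.comap π, Ideal.IsPrime.comap π, Ideal.ext fun r => ?_, fun Ω _ _ _ _ ξ hξ s => ?_⟩
  · rw [Ideal.mem_comap, hkerp, Ideal.algebraMap_residueField_eq_zero]
  obtain ⟨P, hPm, hP⟩ := IsIntegral.of_finite p.ResidueField (Ideal.Quotient.mk M (π s))
  obtain ⟨⟨b, hb⟩, hmult⟩ := IsLocalization.exist_integer_multiples (nonZeroDivisors (R ⧸ p))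
    (Finset.range (P.natDegree + 1)) (fun i => P.coeff i)
  obtain ⟨c, rfl⟩ := Ideal.Quotient.mk_surjective b
  have hc' : algebraMap R p.ResidueField c ≠ 0 := fun h => nonZeroDivisors.ne_zero hb
    ((injective_iff_map_eq_zero _).1 (IsFractionRing.injective (R ⧸ p) p.ResidueField) _
      ((IsScalarTower.algebraMap_apply R (R ⧸ p) p.ResidueField c).symm.trans h))
  have hlift : C (algebraMap R p.ResidueField c) * P ∈ Polynomial.lifts (algebraMap R p.ResidueField) := by
    rw [Polynomial.lifts_iff_coeff_lifts]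
    intro i
    rw [coeff_C_mul]
    rcases Nat.lt_or_ge i (P.natDegree + 1) with h | h
    · obtain ⟨y, hy⟩ := hmult i (Finset.mem_range.2 h)
      obtain ⟨y, rfl⟩ := Ideal.Quotient.mk_surjective y
      refine ⟨y, ?_⟩
      rw [IsScalarTower.algebraMap_apply R (R ⧸ p) p.ResidueField]
      refine hy.trans ?_
      rw [Algebra.smul_def]
      rfl
    · exact ⟨0, by simp [Polynomial.coeff_eq_zero_of_natDegree_lt (Nat.lt_of_succ_le h)]⟩
  obtain ⟨P₀, hP₀⟩ := (Polynomial.mem_lifts _).1 hlift
  have h0 : aeval s P₀ ∈ M.comap π := by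
    rw [Ideal.mem_comap, ← Ideal.Quotient.eq_zero_iff_mem]
    have e : Ideal.Quotient.mk M (π (aeval s P₀)) =
        aeval (Ideal.Quotient.mk M (π s)) (P₀.map (algebraMap R p.ResidueField)) := by
      rw [aeval_map_algebraMap]
      exact (aeval_algHom_apply ((Ideal.Quotient.mkₐ R M).comp Algebra.TensorProduct.includeRight) s P₀).symm
    rw [e, hP₀, map_mul, aeval_def (p := P), hP, mul_zero]
  have h1 : aeval (ξ s) (C (algebraMap R p.ResidueField c) * P) = 0 := by
    rw [← hP₀, aeval_map_algebraMap, aeval_algHom_apply, ← RingHom.mem_ker, hξ]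
    exact h0
  exact IsAlgebraic.isIntegral ⟨_, mul_ne_zero (by simpa using hc') hPm.ne_zero, h1⟩

/-- a residue extension is purely inseparable over the residue extension of a suitable etale neighbourhood -/
theorem exists_etale_rigid {R B : Type u} [CommRing R] [CommRing B] [Algebra R B] [Algebra.FiniteType R B]
    (p : Ideal R) [p.IsPrime]
    (Ω : Type u) [Field Ω] [Algebra R Ω] [Algebra p.ResidueField Ω] [IsScalarTower R p.ResidueField Ω]
    (ξ : B →ₐ[R] Ω) (hint : ∀ s, IsIntegral p.ResidueField (ξ s)) :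
    ∃ (R₀ : Type u) (_ : CommRing R₀) (_ : Algebra R R₀) (_ : Algebra.Etale R R₀) (v₀ : R₀ →ₐ[R] Ω),
      ∀ (Ω' : Type u) [Field Ω'] (c₁ c₂ : Ω →+* Ω'), (∀ r, c₁ (v₀ r) = c₂ (v₀ r)) → ∀ s, c₁ (ξ s) = c₂ (ξ s) := by
  classical
  let K := p.ResidueField
  obtain ⟨t, ht⟩ := Algebra.FiniteType.out (R := R) (A := B)
  let E : IntermediateField K Ω := IntermediateField.adjoin K (ξ '' t)
  haveI : FiniteDimensional K E :=
    IntermediateField.finiteDimensional_adjoin (fun x hx => by
      obtain ⟨s, -, rfl⟩ := hx; exact hint s)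
  have hmem : ∀ s, ξ s ∈ E := by
    intro s
    have hs : s ∈ Algebra.adjoin R (t : Set B) := by rw [ht]; exact Algebra.mem_top
    have : Algebra.adjoin R (t : Set B) ≤ (E.toSubalgebra.restrictScalars R).comap ξ :=
      Algebra.adjoin_le fun y hy => IntermediateField.subset_adjoin K _ ⟨y, hy, rfl⟩
    exact this hs
  obtain ⟨a, ha⟩ := Field.exists_primitive_element K (separableClosure K E)
  let α : Ω := ((a : E) : Ω)
  have hα : IsSeparable K α := by
    have h1 : IsSeparable K (a : E) := mem_separableClosure_iff.1 a.2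
    unfold IsSeparable at h1 ⊢
    rwa [show minpoly K α = minpoly K (a : E) from minpoly.algebraMap_eq (algebraMap E Ω).injective _]
  obtain ⟨R₀, _, _, _, v₀, c, hc0, hcα⟩ := Weighting.exists_etale_point_mem R p Ω α hα
  refine ⟨R₀, _, _, inferInstance, v₀, fun Ω' _ c₁ c₂ hc s => ?_⟩
  have hR : ∀ r, c₁ (algebraMap R Ω r) = c₂ (algebraMap R Ω r) := fun r => by
    rw [← v₀.commutes r]; exact hc _
  have hK : c₁.comp (algebraMap K Ω) = c₂.comp (algebraMap K Ω) := Ideal.ResidueField.ringHom_ext (by
    refine RingHom.ext fun r => ?_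
    show c₁ (algebraMap K Ω (algebraMap R K r)) = c₂ (algebraMap K Ω (algebraMap R K r))
    rw [← IsScalarTower.algebraMap_apply, hR])
  have hca : c₁ α = c₂ α := by
    obtain ⟨y, hy⟩ := hcα
    have := hc y
    rw [hy, map_mul, map_mul, ← hR c] at this
    exact mul_left_cancel₀ (fun h => hc0 (c₁.injective (h.trans (map_zero c₁).symm))) this
  let L : IntermediateField K Ω :=
    { c₁.eqLocusField c₂ with algebraMap_mem' := fun k => congr($hK k) }
  have hL : IntermediateField.adjoin K {α} ≤ L :=
    IntermediateField.adjoin_le_iff.2 (Set.singleton_subset_iff.2 hca)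
  obtain ⟨n, ⟨l, hl⟩⟩ := IsPurelyInseparable.pow_mem (F := separableClosure K E) (E := E)
    (ringExpChar (separableClosure K E)) (⟨ξ s, hmem s⟩ : E)
  haveI : ExpChar (separableClosure K E) (ringExpChar K) :=
    expChar_of_injective_algebraMap (algebraMap K _).injective _
  rw [ringExpChar.eq (separableClosure K E) (ringExpChar K)] at hl
  have hl' : ξ s ^ ringExpChar K ^ n = ((l : E) : Ω) := (congrArg Subtype.val hl).symm
  have hlα : ((l : E) : Ω) ∈ IntermediateField.adjoin K {α} := by
    let j : separableClosure K E →ₐ[K] Ω := E.val.comp (separableClosure K E).val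
    have h2 : IntermediateField.adjoin K {α} = (⊤ : IntermediateField K (separableClosure K E)).map j := by
      rw [← ha, IntermediateField.adjoin_map, Set.image_singleton]
      rfl
    rw [h2]
    exact ⟨l, trivial, rfl⟩
  haveI : ExpChar Ω' (ringExpChar K) := expChar_of_injective_ringHom (c₁.comp (algebraMap K Ω)).injective _
  have hpow : c₁ (ξ s) ^ ringExpChar K ^ n = c₂ (ξ s) ^ ringExpChar K ^ n := by
    rw [← map_pow c₁, ← map_pow c₂, hl']
    exact hL hlα
  exact iterateFrobenius_inj Ω' (ringExpChar K) n hpow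

end Groth.Agent.EtInjUniv
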