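import Groth.Agent.EtInjUniv.Alg
import Groth.Agent.UnivInjMor.Basic
import Groth.Agent.AlgSpLib.LocP

/-!
# Injectivity after etale base change implies universal injectivity
-/

set_option autoImplicit false
set_option linter.style.haveILetI false
universe u

open CategoryTheory CategoryTheory.Limits AlgebraicGeometry

set_option backward.isDefEq.respectTransparency false

namespace Groth.Agent.EtInjUniv

open _root_.AlgSp Groth.Agent.AlgSpLib

variable {S : Scheme.{u}}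

/-- equal points have a common lift over a field -/
theorem exists_field_common {F : Sp S} {U V : Over S} {a : (yon S).obj U ⟶ F} {b : (yon S).obj V ⟶ F}
    {x : ↥U.left} {y : ↥V.left} (h : Points.ofPt a x = Points.ofPt b y) :
    ∃ (Ω : Type u) (_ : Field Ω) (w : Spec (CommRingCat.of Ω) ⟶ S) (α : Over.mk w ⟶ U) (β : Over.mk w ⟶ V),
      (yon S).map α ≫ a = (yon S).map β ≫ b ∧
        (∀ z, α.left z = x) ∧ (∀ z, β.left z = y) := by
  obtain ⟨K, α, β, k, e, hx, hy⟩ := exists_of_ofPt_eq h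
  let ι : Over.mk (K.left.fromSpecResidueField k ≫ K.hom) ⟶ K := Over.homMk (K.left.fromSpecResidueField k) rfl
  refine ⟨K.left.residueField k, inferInstance, _, ι ≫ α, ι ≫ β, ?_, fun z => ?_, fun z => ?_⟩
  · rw [Functor.map_comp, Functor.map_comp, Category.assoc, Category.assoc, e]
  · show (K.left.fromSpecResidueField k ≫ α.left) z = x
    rw [Scheme.Hom.comp_apply, Scheme.fromSpecResidueField_apply, hx]
  · show (K.left.fromSpecResidueField k ≫ β.left) z = y
    rw [Scheme.Hom.comp_apply, Scheme.fromSpecResidueField_apply, hy]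

theorem field_pt_injective {X Y : Sp S} (hX : IsAlgSpace X) (hY : IsAlgSpace Y) (f : X ⟶ Y)
    (hft : LocP @LocallyOfFiniteType f)
    (hinj : ∀ (V : Over S) (g : (yon S).obj V ⟶ Y), RepWith @Etale g →
      Function.Injective (Points.map (pullback.snd f g)))
    (K : Type u) [Field K] (str : Spec (CommRingCat.of K) ⟶ S)
    (x₁ x₂ : (yon S).obj (Over.mk str) ⟶ X) (e : x₁ ≫ f = x₂ ≫ f) : x₁ = x₂ := by
  obtain ⟨V, q, hqe, hqs⟩ := hY.atlas
  let pt : ↥(Over.mk str).left := IsLocalRing.closedPoint K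
  obtain ⟨v, hv⟩ := ofPt_surjective hqs (Points.ofPt (x₁ ≫ f) pt)
  obtain ⟨Ω₁, _, w₁, α, β, hαβ, -, hβv⟩ := exists_field_common hv.symm
  let z₁ : ↥(Over.mk w₁).left := IsLocalRing.closedPoint Ω₁
  have hP : IsAlgSpace (pullback f q) :=
    isAlgSpace_of_isPullback_space hY hX (IsAlgSpace.yon_obj V) (IsPullback.of_hasPullback f q)
  obtain ⟨W, a, hae, has⟩ := hP.atlas
  obtain ⟨g, hg⟩ := exists_map_eq (a ≫ pullback.snd f q)
  have hgft : LocallyOfFiniteType g.left := hft (a ≫ pullback.fst f q) q g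
    (repWith_comp hae (repWith_baseChange (IsPullback.of_hasPullback f q).flip hqe)) hqe
    (by rw [Category.assoc, pullback.condition, hg, Category.assoc])
  let y₁ := pullback.lift (f := f) (g := q) ((yon S).map α ≫ x₁) ((yon S).map β) (by rw [Category.assoc, hαβ])
  let y₂ := pullback.lift (f := f) (g := q) ((yon S).map α ≫ x₂) ((yon S).map β) (by rw [Category.assoc, ← e, hαβ])
  have hy : Points.ofPt y₁ z₁ = Points.ofPt y₂ z₁ := hinj V q hqe (by
    rw [Points.map_ofPt, Points.map_ofPt, pullback.lift_snd, pullback.lift_snd])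
  obtain ⟨w, hw⟩ := ofPt_surjective has (Points.ofPt y₁ z₁)
  -- the image of the point of the atlas
  have hpts : ∀ t : ↥W.left, g.left t = v → Points.ofPt a t = Points.ofPt y₁ z₁ := fun t ht => hinj V q hqe (by
    rw [Points.map_ofPt, Points.map_ofPt, pullback.lift_snd, ← hg, ofScheme_map, ofScheme_map, ht]
    exact congrArg _ (hβv z₁).symm)
  have hgw : g.left w = v := by
    refine (Points.schemeEquiv V).injective ?_
    show Points.ofScheme V (g.left w) = Points.ofScheme V v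
    rw [← hβv z₁, ← ofScheme_map, ← ofScheme_map, hg, ← Points.map_ofPt, hw, Points.map_ofPt, pullback.lift_snd]
  obtain ⟨V₀, hV₀, hvV₀, -⟩ := exists_isAffineOpen_mem_and_subset (U := (⊤ : V.left.Opens)) (x := v) trivial
  obtain ⟨W₀, hW₀, hwW₀, hWV⟩ := exists_isAffineOpen_mem_and_subset (U := g.left ⁻¹ᵁ V₀) (x := w)
    (show g.left w ∈ V₀ by rw [hgw]; exact hvV₀)
  algebraize [(g.left.appLE V₀ W₀ hWV).hom]
  haveI : Algebra.FiniteType Γ(V.left, V₀) Γ(W.left, W₀) := g.left.finiteType_appLE hV₀ hW₀ hWV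
  obtain ⟨Q₀, hQ₀, hQ₀p, hint⟩ := exists_prime_integral (R := Γ(V.left, V₀)) (hW₀.primeIdealOf ⟨w, hwW₀⟩).asIdeal
  let t₀ : ↥W.left := hW₀.fromSpec ⟨Q₀, hQ₀⟩
  have hsq : Spec.map (g.left.appLE V₀ W₀ hWV) ≫ hV₀.fromSpec = hW₀.fromSpec ≫ g.left :=
    IsAffineOpen.SpecMap_appLE_fromSpec g.left hV₀ hW₀ hWV
  have ht₀ : g.left t₀ = v := by
    refine Eq.trans ?_ ((congrArg g.left (hW₀.fromSpec_primeIdealOf ⟨w, hwW₀⟩)).trans hgw)
    rw [← Scheme.Hom.comp_apply, ← Scheme.Hom.comp_apply, ← hsq, Scheme.Hom.comp_apply, Scheme.Hom.comp_apply]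
    exact congrArg _ (PrimeSpectrum.ext hQ₀p)
  obtain ⟨Ω, _, w₂, δ, ε, hδε, -, hεt⟩ := exists_field_common (hpts t₀ ht₀).symm
  let z₂ : ↥(Over.mk w₂).left := IsLocalRing.closedPoint Ω
  let e₀ : Spec (CommRingCat.of Ω) ⟶ Spec Γ(W.left, W₀) := IsOpenImmersion.lift hW₀.fromSpec ε.left (by
    rintro _ ⟨z, rfl⟩
    exact ⟨⟨Q₀, hQ₀⟩, (hεt z).symm⟩)
  have he₀ : e₀ ≫ hW₀.fromSpec = ε.left := IsOpenImmersion.lift_fac _ _ _
  let ξ₀ : Γ(W.left, W₀) →+* Ω := (Spec.preimage e₀).hom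
  have hξ₀ : Spec.map (CommRingCat.ofHom ξ₀) = e₀ := Spec.map_preimage e₀
  let φ : Γ(V.left, V₀) →+* Ω := ξ₀.comp (g.left.appLE V₀ W₀ hWV).hom
  letI : Algebra Γ(V.left, V₀) Ω := φ.toAlgebra
  let ξ : Γ(W.left, W₀) →ₐ[Γ(V.left, V₀)] Ω := { ξ₀ with commutes' := fun r => rfl }
  have hker : RingHom.ker ξ = Q₀ := by
    have h1 : e₀ z₂ = ⟨Q₀, hQ₀⟩ := hW₀.fromSpec.isOpenEmbedding.injective (by
      rw [← Scheme.Hom.comp_apply, he₀]
      exact hεt z₂)
    have h2 := congrArg PrimeSpectrum.asIdeal h1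
    rw [← hξ₀] at h2
    refine Eq.trans ?_ h2
    show RingHom.ker ξ₀ = (IsLocalRing.maximalIdeal Ω).comap ξ₀
    rw [IsLocalRing.maximalIdeal_eq_bot]
    rfl
  let p : Ideal Γ(V.left, V₀) := (hW₀.primeIdealOf ⟨w, hwW₀⟩).asIdeal.comap (algebraMap _ _)
  haveI : p.IsPrime := Ideal.IsPrime.comap _
  have hp : p = RingHom.ker φ := by
    show _ = RingHom.ker (ξ₀.comp _)
    rw [← RingHom.comap_ker, show RingHom.ker ξ₀ = Q₀ from hker]
    exact hQ₀p.symm
  have hunit : p.primeCompl ≤ (IsUnit.submonoid Ω).comap φ := fun r hr =>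
    isUnit_iff_ne_zero.2 fun h => hr (by rw [hp]; exact h)
  letI : Algebra p.ResidueField Ω := (Ideal.ResidueField.lift p φ hp.le hunit).toAlgebra
  haveI : IsScalarTower Γ(V.left, V₀) p.ResidueField Ω :=
    .of_algebraMap_eq fun r => (Ideal.ResidueField.lift_algebraMap p φ hp.le hunit r).symm
  obtain ⟨R₀, _, _, _, v₀, hrigid⟩ := exists_etale_rigid p Ω ξ (hint Ω ξ hker)
  -- the etale neighbourhood
  let V' : Over S := Over.mk (Spec.map (CommRingCat.ofHom (algebraMap Γ(V.left, V₀) R₀)) ≫ hV₀.fromSpec ≫ V.hom)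
  let π : V' ⟶ V := Over.homMk (Spec.map (CommRingCat.ofHom (algebraMap Γ(V.left, V₀) R₀)) ≫ hV₀.fromSpec)
    (Category.assoc _ _ _)
  have hπ : Etale π.left := by
    have : Etale (Spec.map (CommRingCat.ofHom (algebraMap Γ(V.left, V₀) R₀))) :=
      HasRingHomProperty.Spec_iff.2 (RingHom.etale_algebraMap.2 inferInstance)
    exact MorphismProperty.comp_mem @Etale _ _ this inferInstance
  have hδg : δ ≫ β = ε ≫ g := (yon S).map_injective (by
    rw [Functor.map_comp, Functor.map_comp, hg, ← Category.assoc, ← hδε, Category.assoc, pullback.lift_snd])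
  let u : Over.mk w₂ ⟶ V' := Over.homMk (Spec.map (CommRingCat.ofHom v₀.toRingHom)) (by
    show Spec.map _ ≫ Spec.map _ ≫ hV₀.fromSpec ≫ V.hom = w₂
    rw [← Spec.map_comp_assoc, ← CommRingCat.ofHom_comp,
      show v₀.toRingHom.comp (algebraMap Γ(V.left, V₀) R₀) = φ from v₀.comp_algebraMap,
      show CommRingCat.ofHom φ = g.left.appLE V₀ W₀ hWV ≫ CommRingCat.ofHom ξ₀ from rfl, Spec.map_comp_assoc, hξ₀,
      reassoc_of% hsq, reassoc_of% he₀, Over.w g]
    exact Over.w ε)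
  have huπ : u ≫ π = δ ≫ β := by
    rw [hδg]
    refine Over.OverMorphism.ext ?_
    show Spec.map _ ≫ Spec.map _ ≫ hV₀.fromSpec = ε.left ≫ g.left
    rw [← Spec.map_comp_assoc, ← CommRingCat.ofHom_comp,
      show v₀.toRingHom.comp (algebraMap Γ(V.left, V₀) R₀) = φ from v₀.comp_algebraMap,
      show CommRingCat.ofHom φ = g.left.appLE V₀ W₀ hWV ≫ CommRingCat.ofHom ξ₀ from rfl, Spec.map_comp_assoc, hξ₀,
      hsq, reassoc_of% he₀]
  have hq' : RepWith @Etale ((yon S).map π ≫ q) := repWith_comp ((repWith_yon_iff π).2 hπ) hqe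
  have huq : (yon S).map u ≫ (yon S).map π ≫ q = (yon S).map δ ≫ (yon S).map α ≫ x₁ ≫ f := by
    rw [← Functor.map_comp_assoc, huπ, Functor.map_comp, Category.assoc, hαβ]
  let u₁ := pullback.lift (f := f) (g := (yon S).map π ≫ q) ((yon S).map δ ≫ (yon S).map α ≫ x₁) ((yon S).map u)
    (by rw [huq]; simp only [Category.assoc])
  let u₂ := pullback.lift (f := f) (g := (yon S).map π ≫ q) ((yon S).map δ ≫ (yon S).map α ≫ x₂) ((yon S).map u)
    (by rw [huq, e]; simp only [Category.assoc])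
  obtain ⟨Ω', _, w₃, γ₁, γ₂, hγ, -, -⟩ := exists_field_common
    (hinj V' _ hq' (show Points.map _ (Points.ofPt u₁ z₂) = Points.map _ (Points.ofPt u₂ z₂) by
      rw [Points.map_ofPt, Points.map_ofPt, pullback.lift_snd, pullback.lift_snd]))
  have hγu : γ₁ ≫ u = γ₂ ≫ u := (yon S).map_injective (by
    have := congrArg (· ≫ pullback.snd f ((yon S).map π ≫ q)) hγ
    simp only [u₁, u₂, Category.assoc, pullback.lift_snd] at this
    rw [Functor.map_comp, Functor.map_comp]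
    exact this)
  have hγε : γ₁ ≫ ε = γ₂ ≫ ε := by
    refine Over.OverMorphism.ext ?_
    show γ₁.left ≫ ε.left = γ₂.left ≫ ε.left
    obtain ⟨c₁, hc₁⟩ := Spec.map_surjective (show Spec (CommRingCat.of Ω') ⟶ Spec (CommRingCat.of Ω) from γ₁.left)
    obtain ⟨c₂, hc₂⟩ := Spec.map_surjective (show Spec (CommRingCat.of Ω') ⟶ Spec (CommRingCat.of Ω) from γ₂.left)
    have h : CommRingCat.ofHom v₀.toRingHom ≫ c₁ = CommRingCat.ofHom v₀.toRingHom ≫ c₂ := Spec.map_injective (by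
      rw [Spec.map_comp, Spec.map_comp, hc₁, hc₂]
      exact congrArg (fun k => k.left) hγu)
    have hξc : CommRingCat.ofHom ξ₀ ≫ c₁ = CommRingCat.ofHom ξ₀ ≫ c₂ := CommRingCat.hom_ext (RingHom.ext
      (hrigid Ω' c₁.hom c₂.hom (fun r => congr($(h).hom r))))
    have := congrArg (fun k => Spec.map k ≫ hW₀.fromSpec) hξc
    simp only [Spec.map_comp, hξ₀, Category.assoc, he₀, hc₁, hc₂] at this
    exact this
  have h₁ : (yon S).map (γ₁ ≫ δ ≫ α) ≫ x₁ = (yon S).map (γ₂ ≫ δ ≫ α) ≫ x₁ := by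
    have := congrArg (fun k => k ≫ pullback.fst f q)
      (show (yon S).map (γ₁ ≫ δ) ≫ y₁ = (yon S).map (γ₂ ≫ δ) ≫ y₁ by
        rw [Functor.map_comp, Functor.map_comp, Category.assoc, Category.assoc, hδε, ← Category.assoc,
          ← Functor.map_comp, hγε, Functor.map_comp, Category.assoc])
    simpa only [y₁, Category.assoc, pullback.lift_fst, Functor.map_comp] using this
  have h₂ : (yon S).map (γ₁ ≫ δ ≫ α) ≫ x₁ = (yon S).map (γ₂ ≫ δ ≫ α) ≫ x₂ := by
    have := congrArg (· ≫ pullback.fst f ((yon S).map π ≫ q)) hγ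
    simpa only [u₁, u₂, Category.assoc, pullback.lift_fst, Functor.map_comp] using this
  exact UnivInjMor.hom_ext_of_point hX x₁ x₂ (γ₂ ≫ δ ≫ α) (IsLocalRing.closedPoint Ω') (h₁.symm.trans h₂)

end Groth.Agent.EtInjUniv
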